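-- helper13: project FXSP (S5975), common part of the packages [KXM] and [KXP]:
-- a quadratic self-adjoint alternating field subalgebra `K = F + F α` of `M_4(F)` (`α² = a`,
-- `a` a non-square) has a hyperbolic `K`-basis `v₁, v₂`; the expansion of a vector in the
-- `F`-basis `v₁, v₂, α v₁, α v₂`.
import Mathlib
import Cfsg.Prelude.Def_ClassicalGeometry
import Cfsg.Prelude.Def_GeometricClasses
import Cfsg.Agent.Lib.Helper4.FXSP.Defs
import Cfsg.Agent.Lib.Helper13.Symp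

set_option autoImplicit false
open scoped MatrixGroups
open scoped Matrix

namespace Cfsg.Agent.Lib.Helper13.FXSP

open Cfsg.Agent.Lib.Helper4.FXSP Cfsg.Agent.Lib.Helper13

universe u

variable {F : Type u} [Field F]

/-- two square matrices with the same action on vectors are equal -/
theorem kx_mat_ext {ι : Type} [Fintype ι] [DecidableEq ι] {A B : Matrix ι ι F}
    (h : ∀ v : ι → F, A *ᵥ v = B *ᵥ v) : A = B := by
  ext i j
  have := congrFun (h (Pi.single j 1)) i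
  simpa using this

/-- structure of a quadratic field subalgebra in odd characteristic: `K = F + F α` with
`α² = a` a non-square scalar. -/
theorem kx_struct {ι : Type} [Fintype ι] [DecidableEq ι] (K : Subalgebra F (Matrix ι ι F))
    (hK : Cfsg.Geo.IsFieldSubalgebra 2 K) (h2 : (2 : F) ≠ 0) :
    ∃ (α : Matrix ι ι F) (a : F), α ∈ K ∧ α * α = a • (1 : Matrix ι ι F) ∧
      (∀ t : F, t * t ≠ a) ∧
      ∀ k ∈ K, ∃ s t : F, k = s • (1 : Matrix ι ι F) + t • α := by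
  -- an element outside the scalars
  have hex : ∃ β ∈ K, ∀ c : F, β ≠ c • (1 : Matrix ι ι F) := by
    by_contra hcon
    push Not at hcon
    have hle : Module.finrank F K ≤ 1 := by
      apply finrank_le_one (1 : K)
      intro w
      obtain ⟨c, hc⟩ := hcon w.1 w.2
      refine ⟨c, ?_⟩
      apply Subtype.ext
      simp [hc]
    rw [hK.finrank_eq] at hle
    omega
  obtain ⟨β, hβ, hβne⟩ := hex
  -- `1, β` span `K`
  have hli : LinearIndependent F ![(1 : K), ⟨β, hβ⟩] := by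
    rw [LinearIndependent.pair_iff]
    intro s t hst
    have hst' : s • (1 : Matrix ι ι F) + t • β = 0 := by
      have := congrArg (Subtype.val) hst
      simpa using this
    have ht : t = 0 := by
      by_contra ht
      apply hβne (-(s / t))
      have h1 : t • β = (-s) • (1 : Matrix ι ι F) := by
        rw [neg_smul]
        exact eq_neg_of_add_eq_zero_right hst'
      calc β = t⁻¹ • (t • β) := by rw [smul_smul, inv_mul_cancel₀ ht, one_smul]
        _ = (-(s / t)) • (1 : Matrix ι ι F) := by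
            rw [h1, smul_smul]
            congr 1
            field_simp
    refine ⟨?_, ht⟩
    rw [ht, zero_smul, add_zero] at hst'
    by_contra hs
    apply hβne 0
    have h1 : (1 : Matrix ι ι F) = 0 := by
      calc (1 : Matrix ι ι F) = s⁻¹ • (s • (1 : Matrix ι ι F)) := by
            rw [smul_smul, inv_mul_cancel₀ hs, one_smul]
        _ = 0 := by rw [hst', smul_zero]
    rw [zero_smul]
    calc β = β * 1 := (mul_one β).symm
      _ = 0 := by rw [h1, mul_zero]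
  have hspan : Submodule.span F (Set.range ![(1 : K), ⟨β, hβ⟩]) = ⊤ := by
    apply hli.span_eq_top_of_card_eq_finrank'
    rw [hK.finrank_eq]
    simp
  have hKβ : ∀ k ∈ K, ∃ s t : F, k = s • (1 : Matrix ι ι F) + t • β := by
    intro k hk
    have hmem : (⟨k, hk⟩ : K) ∈ Submodule.span F (Set.range ![(1 : K), ⟨β, hβ⟩]) := by
      rw [hspan]; trivial
    obtain ⟨c, hc⟩ := (Submodule.mem_span_range_iff_exists_fun F).1 hmem
    refine ⟨c 0, c 1, ?_⟩
    have := congrArg (Subtype.val) hc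
    simp [Fin.sum_univ_two] at this
    exact this.symm
  -- complete the square
  obtain ⟨p, q, hpq⟩ := hKβ (β * β) (K.mul_mem hβ hβ)
  set c : F := q / 2 with hc
  have hq : q = 2 * c := by rw [hc]; field_simp
  have h1K : (1 : Matrix ι ι F) ∈ K := K.one_mem
  have hαK : β - c • (1 : Matrix ι ι F) ∈ K := K.sub_mem hβ (K.smul_mem h1K c)
  have hαα : (β - c • (1 : Matrix ι ι F)) * (β - c • (1 : Matrix ι ι F)) =
      (p + c * c) • (1 : Matrix ι ι F) := by
    have : (β - c • (1 : Matrix ι ι F)) * (β - c • (1 : Matrix ι ι F)) =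
        β * β - c • β - c • β + (c * c) • (1 : Matrix ι ι F) := by
      simp only [sub_mul, mul_sub, Matrix.smul_mul, Matrix.mul_smul, one_mul, mul_one,
        smul_smul]
      abel
    rw [this, hpq, hq]
    module
  have hαne : ∀ t : F, β - c • (1 : Matrix ι ι F) ≠ t • (1 : Matrix ι ι F) := by
    intro t ht
    apply hβne (t + c)
    rw [add_smul, ← ht]
    abel
  refine ⟨β - c • (1 : Matrix ι ι F), p + c * c, hαK, hαα, ?_, ?_⟩
  · intro t ht
    have hm : β - c • (1 : Matrix ι ι F) - t • (1 : Matrix ι ι F) ∈ K :=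
      K.sub_mem hαK (K.smul_mem h1K t)
    have hne : β - c • (1 : Matrix ι ι F) - t • (1 : Matrix ι ι F) ≠ 0 := by
      intro h0
      exact hαne t (sub_eq_zero.1 h0)
    obtain ⟨y, -, hy⟩ := hK.inv _ hm hne
    have hprod : (β - c • (1 : Matrix ι ι F) + t • (1 : Matrix ι ι F)) *
        (β - c • (1 : Matrix ι ι F) - t • (1 : Matrix ι ι F)) = 0 := by
      have : ∀ A : Matrix ι ι F, (A + t • (1 : Matrix ι ι F)) * (A - t • (1 : Matrix ι ι F)) =
          A * A - (t * t) • (1 : Matrix ι ι F) := by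
        intro A
        simp only [add_mul, mul_sub, Matrix.smul_mul, Matrix.mul_smul, one_mul, mul_one,
          smul_smul]
        abel
      rw [this, hαα, ht, sub_self]
    apply hαne (-t)
    have : β - c • (1 : Matrix ι ι F) + t • (1 : Matrix ι ι F) = 0 := by
      calc β - c • (1 : Matrix ι ι F) + t • (1 : Matrix ι ι F)
          = (β - c • (1 : Matrix ι ι F) + t • (1 : Matrix ι ι F)) *
              ((β - c • (1 : Matrix ι ι F) - t • (1 : Matrix ι ι F)) * y) := by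
            rw [hy, mul_one]
        _ = 0 := by rw [← mul_assoc, hprod, zero_mul]
    rw [neg_smul]
    exact eq_neg_of_add_eq_zero_left this
  · intro k hk
    obtain ⟨s, t, hst⟩ := hKβ k hk
    refine ⟨s + t * c, t, ?_⟩
    rw [hst]
    module

/-- the data of the construction: `α` self-adjoint and alternating with `α² = a ≠ 0`, and vectors
`v₁, v₂` with `f(v₁, v₂) = 1`, `f(α v₁, v₂) = 0`. -/
structure KXData (α : Md 2 F) (a : F) (v₁ v₂ : Vd 2 F) : Prop where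
  sa : ∀ u v : Vd 2 F, Cfsg.sympForm 2 F (α *ᵥ u) v = Cfsg.sympForm 2 F u (α *ᵥ v)
  alt : ∀ v : Vd 2 F, Cfsg.sympForm 2 F (α *ᵥ v) v = 0
  sq : ∀ v : Vd 2 F, α *ᵥ (α *ᵥ v) = a • v
  ha : a ≠ 0
  g12 : Cfsg.sympForm 2 F v₁ v₂ = 1
  gp2 : Cfsg.sympForm 2 F (α *ᵥ v₁) v₂ = 0

/-- existence of the data -/
theorem kx_data (K : Subalgebra F (Md 2 F)) (hK : Adm 2 2 K) (h2 : (2 : F) ≠ 0) :
    ∃ (α : Md 2 F) (a : F) (v₁ v₂ : Vd 2 F), α ∈ K ∧ α * α = a • (1 : Md 2 F) ∧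
      (∀ k ∈ K, ∃ s t : F, k = s • (1 : Md 2 F) + t • α) ∧ KXData α a v₁ v₂ := by
  obtain ⟨α, a, hα, hαα, hns, hspan⟩ := kx_struct K hK.fld h2
  have hsa : ∀ u v : Vd 2 F, Cfsg.sympForm 2 F (α *ᵥ u) v = Cfsg.sympForm 2 F u (α *ᵥ v) :=
    fun u v => hK.sa α hα u v
  have hsq : ∀ v : Vd 2 F, α *ᵥ (α *ᵥ v) = a • v := by
    intro v
    rw [Matrix.mulVec_mulVec, hαα, Matrix.smul_mulVec, Matrix.one_mulVec]
  have ha : a ≠ 0 := by
    intro h0
    exact hns 0 (by rw [h0, mul_zero])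
  set v₁ : Vd 2 F := Pi.single (Sum.inr 0) 1 with hv₁
  set w : Vd 2 F := Pi.single (Sum.inl 0) 1 with hw
  have h1w : Cfsg.sympForm 2 F v₁ w = 1 := by
    rw [hv₁, hw, sympForm_eq]
    simp
  set t : F := Cfsg.sympForm 2 F (α *ᵥ v₁) w with ht
  have hD : a - t * t ≠ 0 := by
    intro h0
    exact hns t (sub_eq_zero.1 h0).symm
  have e1 : Cfsg.sympForm 2 F (α *ᵥ v₁) w = t := rfl
  have e2 : Cfsg.sympForm 2 F v₁ (α *ᵥ w) = t := by rw [← hsa]
  have e3 : Cfsg.sympForm 2 F (α *ᵥ v₁) (α *ᵥ w) = a := by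
    rw [hsa, hsq, sympForm_smul_right, h1w, mul_one]
  refine ⟨α, a, v₁, (a / (a - t * t)) • w - (t / (a - t * t)) • (α *ᵥ w), hα, hαα, hspan,
    hsa, fun v => hK.alt α hα v, hsq, ha, ?_, ?_⟩
  · rw [sympForm_sub_right, sympForm_smul_right, sympForm_smul_right, h1w, e2]
    have : a / (a - t * t) * 1 - t / (a - t * t) * t = (a - t * t) / (a - t * t) := by ring
    rw [this, div_self hD]
  · rw [sympForm_sub_right, sympForm_smul_right, sympForm_smul_right, e1, e3]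
    ring

namespace KXData

variable {α : Md 2 F} {a : F} {v₁ v₂ : Vd 2 F}

theorem g21 (h : KXData α a v₁ v₂) : Cfsg.sympForm 2 F v₂ v₁ = -1 := by
  rw [sympForm_swap, h.g12]

theorem g2p (h : KXData α a v₁ v₂) : Cfsg.sympForm 2 F v₂ (α *ᵥ v₁) = 0 := by
  rw [sympForm_swap, h.gp2, neg_zero]

theorem g1q (h : KXData α a v₁ v₂) : Cfsg.sympForm 2 F v₁ (α *ᵥ v₂) = 0 := by
  rw [← h.sa, h.gp2]

theorem gq1 (h : KXData α a v₁ v₂) : Cfsg.sympForm 2 F (α *ᵥ v₂) v₁ = 0 := by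
  rw [sympForm_swap, h.g1q, neg_zero]

theorem gp1 (h : KXData α a v₁ v₂) : Cfsg.sympForm 2 F (α *ᵥ v₁) v₁ = 0 := h.alt v₁

theorem g1p (h : KXData α a v₁ v₂) : Cfsg.sympForm 2 F v₁ (α *ᵥ v₁) = 0 := by
  rw [← h.sa, h.alt]

theorem gq2 (h : KXData α a v₁ v₂) : Cfsg.sympForm 2 F (α *ᵥ v₂) v₂ = 0 := h.alt v₂

theorem g2q (h : KXData α a v₁ v₂) : Cfsg.sympForm 2 F v₂ (α *ᵥ v₂) = 0 := by
  rw [← h.sa, h.alt]

theorem gpq (h : KXData α a v₁ v₂) : Cfsg.sympForm 2 F (α *ᵥ v₁) (α *ᵥ v₂) = a := by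
  rw [h.sa, h.sq, sympForm_smul_right, h.g12, mul_one]

theorem gqp (h : KXData α a v₁ v₂) : Cfsg.sympForm 2 F (α *ᵥ v₂) (α *ᵥ v₁) = -a := by
  rw [sympForm_swap, h.gpq]

theorem g11 (_h : KXData α a v₁ v₂) : Cfsg.sympForm 2 F v₁ v₁ = 0 := sympForm_self _ _

theorem g22 (_h : KXData α a v₁ v₂) : Cfsg.sympForm 2 F v₂ v₂ = 0 := sympForm_self _ _

theorem gpp (_h : KXData α a v₁ v₂) : Cfsg.sympForm 2 F (α *ᵥ v₁) (α *ᵥ v₁) = 0 :=
  sympForm_self _ _

theorem gqq (_h : KXData α a v₁ v₂) : Cfsg.sympForm 2 F (α *ᵥ v₂) (α *ᵥ v₂) = 0 :=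
  sympForm_self _ _

/-- `f(α u, α v) = a f(u, v)` -/
theorem gαα (h : KXData α a v₁ v₂) (u v : Vd 2 F) :
    Cfsg.sympForm 2 F (α *ᵥ u) (α *ᵥ v) = a * Cfsg.sympForm 2 F u v := by
  rw [h.sa, h.sq, sympForm_smul_right]

/-- the expansion of a vector in the basis `v₁, v₂, α v₁, α v₂` -/
theorem expand (h : KXData α a v₁ v₂) (w : Vd 2 F) :
    w = Cfsg.sympForm 2 F w v₂ • v₁ - Cfsg.sympForm 2 F w v₁ • v₂ +
      (Cfsg.sympForm 2 F w (α *ᵥ v₂) / a) • (α *ᵥ v₁) -
      (Cfsg.sympForm 2 F w (α *ᵥ v₁) / a) • (α *ᵥ v₂) := by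
  have ha := h.ha
  have hli : LinearIndependent F ![v₁, v₂, α *ᵥ v₁, α *ᵥ v₂] := by
    rw [Fintype.linearIndependent_iff]
    intro g hg
    simp only [Fin.sum_univ_four] at hg
    have hg' : g 0 • v₁ + g 1 • v₂ + g 2 • (α *ᵥ v₁) + g 3 • (α *ᵥ v₂) = 0 := hg
    have e0 := congrArg (fun z => Cfsg.sympForm 2 F z v₂) hg'
    have e1 := congrArg (fun z => Cfsg.sympForm 2 F z v₁) hg'
    have e2 := congrArg (fun z => Cfsg.sympForm 2 F z (α *ᵥ v₂)) hg'
    have e3 := congrArg (fun z => Cfsg.sympForm 2 F z (α *ᵥ v₁)) hg'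
    simp only [sympForm_add_left, sympForm_smul_left, sympForm_zero_left, h.g12, h.g21, h.g2p,
      h.g1q, h.gq1, h.gp1, h.g1p, h.gq2, h.g2q, h.gpq, h.gqp, h.g11, h.g22, h.gpp, h.gqq, h.gp2,
      mul_zero, mul_one, add_zero, zero_add, mul_neg, neg_eq_zero] at e0 e1 e2 e3
    have e2' : g 2 = 0 := by
      rcases mul_eq_zero.1 e2 with h' | h'
      · exact h'
      · exact absurd h' ha
    have e3' : g 3 = 0 := by
      rcases mul_eq_zero.1 e3 with h' | h'
      · exact h'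
      · exact absurd h' ha
    intro i
    fin_cases i
    · exact e0
    · exact e1
    · exact e2'
    · exact e3'
  have hspan : Submodule.span F (Set.range ![v₁, v₂, α *ᵥ v₁, α *ᵥ v₂]) = ⊤ := by
    apply hli.span_eq_top_of_card_eq_finrank'
    simp
  have hmem : w ∈ Submodule.span F (Set.range ![v₁, v₂, α *ᵥ v₁, α *ᵥ v₂]) := by
    rw [hspan]; trivial
  obtain ⟨c, hc⟩ := (Submodule.mem_span_range_iff_exists_fun F).1 hmem
  simp only [Fin.sum_univ_four] at hc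
  have hc' : c 0 • v₁ + c 1 • v₂ + c 2 • (α *ᵥ v₁) + c 3 • (α *ᵥ v₂) = w := hc
  have e0 : Cfsg.sympForm 2 F w v₂ = c 0 := by
    rw [← hc']
    simp only [sympForm_add_left, sympForm_smul_left, h.g12, h.g22, h.gp2, h.gq2,
      mul_zero, mul_one, add_zero]
  have e1 : Cfsg.sympForm 2 F w v₁ = - c 1 := by
    rw [← hc']
    simp only [sympForm_add_left, sympForm_smul_left, h.g11, h.g21, h.gp1, h.gq1,
      mul_zero, mul_one, add_zero, zero_add, mul_neg]
  have e2 : Cfsg.sympForm 2 F w (α *ᵥ v₂) / a = c 2 := by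
    rw [← hc']
    simp only [sympForm_add_left, sympForm_smul_left, h.g1q, h.g2q, h.gpq, h.gqq,
      mul_zero, add_zero, zero_add]
    field_simp
  have e3 : Cfsg.sympForm 2 F w (α *ᵥ v₁) / a = - c 3 := by
    rw [← hc']
    simp only [sympForm_add_left, sympForm_smul_left, h.g1p, h.g2p, h.gpp, h.gqp,
      mul_zero, add_zero, zero_add]
    field_simp
  rw [e0, e1, e2, e3, neg_smul, neg_smul, sub_neg_eq_add, sub_neg_eq_add]
  exact hc'.symm

end KXData

/-- the matrix of `w ↦ f(w, z) • y` -/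
def kxR (y z : Vd 2 F) : Md 2 F := Matrix.vecMulVec y (Matrix.J (Fin 2) F *ᵥ z)

theorem kxR_mulVec (y z w : Vd 2 F) : kxR y z *ᵥ w = Cfsg.sympForm 2 F w z • y := by
  unfold kxR Cfsg.sympForm
  rw [Matrix.vecMulVec_mulVec, op_smul_eq_smul, dotProduct_comm]

/-- a criterion for membership in the normaliser of a subalgebra -/
theorem kx_mem_normalizer (K : Subalgebra F (Md 2 F)) (x : GL (Fin 2 ⊕ Fin 2) F)
    (h1 : ∀ k ∈ K, (x : Md 2 F) * k * ((x⁻¹ : GL (Fin 2 ⊕ Fin 2) F) : Md 2 F) ∈ K)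
    (h2 : ∀ k ∈ K, ((x⁻¹ : GL (Fin 2 ⊕ Fin 2) F) : Md 2 F) * k * (x : Md 2 F) ∈ K) :
    x ∈ Cfsg.Geo.subalgebraNormalizer K := by
  show ∀ k : Md 2 F, k ∈ K ↔ (x : Md 2 F) * k * ((x⁻¹ : GL (Fin 2 ⊕ Fin 2) F) : Md 2 F) ∈ K
  intro k
  constructor
  · exact h1 k
  · intro hk
    have h3 := h2 _ hk
    have e1 : ((x⁻¹ : GL (Fin 2 ⊕ Fin 2) F) : Md 2 F) * (x : Md 2 F) = 1 := by
      rw [← Units.val_mul, inv_mul_cancel, Units.val_one]
    have e : ((x⁻¹ : GL (Fin 2 ⊕ Fin 2) F) : Md 2 F) *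
        ((x : Md 2 F) * k * ((x⁻¹ : GL (Fin 2 ⊕ Fin 2) F) : Md 2 F)) * (x : Md 2 F) = k := by
      calc ((x⁻¹ : GL (Fin 2 ⊕ Fin 2) F) : Md 2 F) *
            ((x : Md 2 F) * k * ((x⁻¹ : GL (Fin 2 ⊕ Fin 2) F) : Md 2 F)) * (x : Md 2 F)
          = (((x⁻¹ : GL (Fin 2 ⊕ Fin 2) F) : Md 2 F) * (x : Md 2 F)) * k *
              (((x⁻¹ : GL (Fin 2 ⊕ Fin 2) F) : Md 2 F) * (x : Md 2 F)) := by
            simp only [mul_assoc]
        _ = k := by rw [e1, one_mul, mul_one]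
    rwa [e] at h3

end Cfsg.Agent.Lib.Helper13.FXSP
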