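-- helper13: project FXSP (S5975), package [KXM]: `N(K) ∩ Sp_4(q)` contains an element with
-- square `-1` (`d = k = 2`, `q` odd).
import Mathlib
import Cfsg.Prelude.Def_ClassicalGeometry
import Cfsg.Prelude.Def_GeometricClasses
import Cfsg.Agent.Lib.Helper4.FXSP.Defs
import Cfsg.Agent.Lib.Helper13.Symp
import Cfsg.Agent.Lib.Helper13.FXSP.KXBase

set_option autoImplicit false
open scoped MatrixGroups
open scoped Matrix

namespace Cfsg.Agent.Lib.Helper13.FXSP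

open Cfsg.Agent.Lib.Helper4.FXSP Cfsg.Agent.Lib.Helper13

universe u

variable {F : Type u} [Field F]

/-- the `K`-linear map `v₁ ↦ v₂`, `v₂ ↦ -v₁` (so `α v₁ ↦ α v₂`, `α v₂ ↦ -α v₁`). -/
def kxM (α : Md 2 F) (a : F) (v₁ v₂ : Vd 2 F) : Md 2 F :=
  kxR v₂ v₂ + kxR v₁ v₁ + a⁻¹ • (kxR (α *ᵥ v₂) (α *ᵥ v₂) + kxR (α *ᵥ v₁) (α *ᵥ v₁))

namespace KXData

variable {α : Md 2 F} {a : F} {v₁ v₂ : Vd 2 F}

theorem kxM_mulVec (_h : KXData α a v₁ v₂) (w : Vd 2 F) :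
    kxM α a v₁ v₂ *ᵥ w = Cfsg.sympForm 2 F w v₂ • v₂ + Cfsg.sympForm 2 F w v₁ • v₁ +
      a⁻¹ • (Cfsg.sympForm 2 F w (α *ᵥ v₂) • (α *ᵥ v₂) +
        Cfsg.sympForm 2 F w (α *ᵥ v₁) • (α *ᵥ v₁)) := by
  unfold kxM
  rw [Matrix.add_mulVec, Matrix.add_mulVec, Matrix.smul_mulVec, Matrix.add_mulVec, kxR_mulVec,
    kxR_mulVec, kxR_mulVec, kxR_mulVec]

theorem kxM_2 (h : KXData α a v₁ v₂) (w : Vd 2 F) :
    Cfsg.sympForm 2 F (kxM α a v₁ v₂ *ᵥ w) v₂ = Cfsg.sympForm 2 F w v₁ := by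
  rw [h.kxM_mulVec]
  simp only [sympForm_add_left, sympForm_smul_left, h.g22, h.g12, h.gq2, h.gp2, mul_zero,
    mul_one, add_zero, zero_add]

theorem kxM_1 (h : KXData α a v₁ v₂) (w : Vd 2 F) :
    Cfsg.sympForm 2 F (kxM α a v₁ v₂ *ᵥ w) v₁ = - Cfsg.sympForm 2 F w v₂ := by
  rw [h.kxM_mulVec]
  simp only [sympForm_add_left, sympForm_smul_left, h.g21, h.g11, h.gq1, h.gp1, mul_zero,
    mul_one, add_zero, mul_neg]

theorem kxM_q (h : KXData α a v₁ v₂) (w : Vd 2 F) :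
    Cfsg.sympForm 2 F (kxM α a v₁ v₂ *ᵥ w) (α *ᵥ v₂) = Cfsg.sympForm 2 F w (α *ᵥ v₁) := by
  have ha := h.ha
  rw [h.kxM_mulVec]
  simp only [sympForm_add_left, sympForm_smul_left, h.g2q, h.g1q, h.gqq, h.gpq, mul_zero,
    add_zero, zero_add]
  field_simp

theorem kxM_p (h : KXData α a v₁ v₂) (w : Vd 2 F) :
    Cfsg.sympForm 2 F (kxM α a v₁ v₂ *ᵥ w) (α *ᵥ v₁) = - Cfsg.sympForm 2 F w (α *ᵥ v₂) := by
  have ha := h.ha
  rw [h.kxM_mulVec]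
  simp only [sympForm_add_left, sympForm_smul_left, h.g2p, h.g1p, h.gqp, h.gpp, mul_zero,
    add_zero, zero_add]
  field_simp

theorem kxM_sq (h : KXData α a v₁ v₂) : kxM α a v₁ v₂ * kxM α a v₁ v₂ = -1 := by
  have ha := h.ha
  apply kx_mat_ext
  intro w
  have hE := h.expand w
  rw [← Matrix.mulVec_mulVec, Matrix.neg_mulVec, Matrix.one_mulVec,
    h.kxM_mulVec (kxM α a v₁ v₂ *ᵥ w), h.kxM_2, h.kxM_1, h.kxM_q, h.kxM_p]
  nth_rewrite 5 [hE]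
  match_scalars <;> field_simp

theorem kxM_form (h : KXData α a v₁ v₂) (u v : Vd 2 F) :
    Cfsg.sympForm 2 F (kxM α a v₁ v₂ *ᵥ u) (kxM α a v₁ v₂ *ᵥ v) = Cfsg.sympForm 2 F u v := by
  have ha := h.ha
  have e : Cfsg.sympForm 2 F u v = Cfsg.sympForm 2 F u
      (Cfsg.sympForm 2 F v v₂ • v₁ - Cfsg.sympForm 2 F v v₁ • v₂ +
      (Cfsg.sympForm 2 F v (α *ᵥ v₂) / a) • (α *ᵥ v₁) -
      (Cfsg.sympForm 2 F v (α *ᵥ v₁) / a) • (α *ᵥ v₂)) :=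
    congrArg (Cfsg.sympForm 2 F u) (h.expand v)
  rw [e, h.kxM_mulVec v]
  simp only [sympForm_add_right, sympForm_sub_right, sympForm_smul_right, h.kxM_2, h.kxM_1,
    h.kxM_q, h.kxM_p]
  ring

theorem kxM_comm (h : KXData α a v₁ v₂) : kxM α a v₁ v₂ * α = α * kxM α a v₁ v₂ := by
  have ha := h.ha
  apply kx_mat_ext
  intro w
  rw [← Matrix.mulVec_mulVec, ← Matrix.mulVec_mulVec, h.kxM_mulVec, h.kxM_mulVec, h.gαα, h.gαα,
    h.sa w v₂, h.sa w v₁]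
  simp only [Matrix.mulVec_add, Matrix.mulVec_smul, h.sq]
  match_scalars <;> field_simp

end KXData

/-- [KXM] -/
theorem pkgKXM : PkgKXM.{u} := by
  intro F _ _ K hK h2
  obtain ⟨α, a, v₁, v₂, hα, hαα, hspan, h⟩ := kx_data K hK h2
  have hYY := h.kxM_sq
  have hYα := h.kxM_comm
  have hu1 : kxM α a v₁ v₂ * -kxM α a v₁ v₂ = 1 := by rw [mul_neg, hYY, neg_neg]
  have hu2 : -kxM α a v₁ v₂ * kxM α a v₁ v₂ = 1 := by rw [neg_mul, hYY, neg_neg]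
  let x : GL (Fin 2 ⊕ Fin 2) F := ⟨kxM α a v₁ v₂, -kxM α a v₁ v₂, hu1, hu2⟩
  have hxv : (x : Md 2 F) = kxM α a v₁ v₂ := rfl
  have hxi : ((x⁻¹ : GL (Fin 2 ⊕ Fin 2) F) : Md 2 F) = -kxM α a v₁ v₂ := rfl
  have hcomm : ∀ k ∈ K, kxM α a v₁ v₂ * k = k * kxM α a v₁ v₂ := by
    intro k hk
    obtain ⟨s, t, rfl⟩ := hspan k hk
    rw [mul_add, add_mul, Matrix.mul_smul, Matrix.smul_mul, mul_one, one_mul, Matrix.mul_smul,
      Matrix.smul_mul, hYα]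
  refine ⟨x, ?_, ?_, ?_⟩
  · show ∀ u v : Vd 2 F, Cfsg.sympForm 2 F ((x : Md 2 F) *ᵥ u) ((x : Md 2 F) *ᵥ v) =
      Cfsg.sympForm 2 F u v
    intro u v
    rw [hxv]
    exact h.kxM_form u v
  · apply kx_mem_normalizer
    · intro k hk
      rw [hxv, hxi, hcomm k hk, mul_assoc, hu1, mul_one]
      exact hk
    · intro k hk
      rw [hxv, hxi, neg_mul, neg_mul, hcomm k hk, mul_assoc, hYY, mul_neg, mul_one, neg_neg]
      exact hk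
  · rw [hxv]
    exact hYY

end Cfsg.Agent.Lib.Helper13.FXSP
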