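-- helper13: project FXSP (S5975), package [KXP]: `N(K) ∩ Sp_4(q)` contains an involution other
-- than `±1` (`d = k = 2`, `q` odd).
import Mathlib
import Cfsg.Prelude.Def_ClassicalGeometry
import Cfsg.Prelude.Def_GeometricClasses
import Cfsg.Agent.Lib.Helper4.FXSP.Defs
import Cfsg.Agent.Lib.Helper13.Symp
import Cfsg.Agent.Lib.Helper13.FXSP.KXBase

set_option autoImplicit false
open scoped MatrixGroups
open scoped Matrix

namespace Cfsg.Agent.Lib.Helper13.FXSP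

open Cfsg.Agent.Lib.Helper4.FXSP Cfsg.Agent.Lib.Helper13

universe u

variable {F : Type u} [Field F]

/-- the involution: `-1` on `α v₁, α v₂` and `1` on `v₁, v₂`. -/
def kxP (α : Md 2 F) (a : F) (v₁ v₂ : Vd 2 F) : Md 2 F :=
  1 - (2 / a) • (kxR (α *ᵥ v₁) (α *ᵥ v₂) - kxR (α *ᵥ v₂) (α *ᵥ v₁))

namespace KXData

variable {α : Md 2 F} {a : F} {v₁ v₂ : Vd 2 F}

theorem kxP_mulVec (_h : KXData α a v₁ v₂) (v : Vd 2 F) :
    kxP α a v₁ v₂ *ᵥ v = v - (2 / a) • (Cfsg.sympForm 2 F v (α *ᵥ v₂) • (α *ᵥ v₁) -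
      Cfsg.sympForm 2 F v (α *ᵥ v₁) • (α *ᵥ v₂)) := by
  unfold kxP
  rw [Matrix.sub_mulVec, Matrix.one_mulVec, Matrix.smul_mulVec, Matrix.sub_mulVec, kxR_mulVec,
    kxR_mulVec]

theorem kxP_q (h : KXData α a v₁ v₂) (v : Vd 2 F) :
    Cfsg.sympForm 2 F (kxP α a v₁ v₂ *ᵥ v) (α *ᵥ v₂) = - Cfsg.sympForm 2 F v (α *ᵥ v₂) := by
  have ha := h.ha
  rw [h.kxP_mulVec, sympForm_sub_left, sympForm_smul_left, sympForm_sub_left, sympForm_smul_left,
    sympForm_smul_left, h.gpq, h.gqq]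
  field_simp
  ring

theorem kxP_p (h : KXData α a v₁ v₂) (v : Vd 2 F) :
    Cfsg.sympForm 2 F (kxP α a v₁ v₂ *ᵥ v) (α *ᵥ v₁) = - Cfsg.sympForm 2 F v (α *ᵥ v₁) := by
  have ha := h.ha
  rw [h.kxP_mulVec, sympForm_sub_left, sympForm_smul_left, sympForm_sub_left, sympForm_smul_left,
    sympForm_smul_left, h.gpp, h.gqp]
  field_simp
  ring

theorem kxP_sq (h : KXData α a v₁ v₂) : kxP α a v₁ v₂ * kxP α a v₁ v₂ = 1 := by
  apply kx_mat_ext
  intro v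
  rw [← Matrix.mulVec_mulVec, Matrix.one_mulVec, h.kxP_mulVec (kxP α a v₁ v₂ *ᵥ v), h.kxP_q,
    h.kxP_p, h.kxP_mulVec]
  module

theorem kxP_form (h : KXData α a v₁ v₂) (u v : Vd 2 F) :
    Cfsg.sympForm 2 F (kxP α a v₁ v₂ *ᵥ u) (kxP α a v₁ v₂ *ᵥ v) = Cfsg.sympForm 2 F u v := by
  have ha := h.ha
  rw [h.kxP_mulVec v, sympForm_sub_right, sympForm_smul_right, sympForm_sub_right,
    sympForm_smul_right, sympForm_smul_right, h.kxP_q, h.kxP_p, h.kxP_mulVec u,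
    sympForm_sub_left, sympForm_smul_left, sympForm_sub_left, sympForm_smul_left,
    sympForm_smul_left, sympForm_swap 2 (α *ᵥ v₁) v, sympForm_swap 2 (α *ᵥ v₂) v]
  field_simp
  ring

theorem kxP_anti (h : KXData α a v₁ v₂) : kxP α a v₁ v₂ * α = -(α * kxP α a v₁ v₂) := by
  have ha := h.ha
  apply kx_mat_ext
  intro v
  have hE := h.expand (α *ᵥ v)
  rw [h.sa v v₂, h.sa v v₁, h.gαα, h.gαα, mul_div_cancel_left₀ _ ha,
    mul_div_cancel_left₀ _ ha] at hE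
  rw [Matrix.neg_mulVec, ← Matrix.mulVec_mulVec, ← Matrix.mulVec_mulVec, h.kxP_mulVec,
    h.kxP_mulVec, h.gαα, h.gαα, Matrix.mulVec_sub, Matrix.mulVec_smul, Matrix.mulVec_sub,
    Matrix.mulVec_smul, Matrix.mulVec_smul, h.sq, h.sq]
  rw [hE]
  match_scalars <;> (field_simp; ring)

end KXData

/-- [KXP] -/
theorem pkgKXP : PkgKXP.{u} := by
  intro F _ _ K hK h2
  obtain ⟨α, a, v₁, v₂, hα, hαα, hspan, h⟩ := kx_data K hK h2
  have ha := h.ha
  have hXX := h.kxP_sq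
  have hanti := h.kxP_anti
  let x : GL (Fin 2 ⊕ Fin 2) F := ⟨kxP α a v₁ v₂, kxP α a v₁ v₂, hXX, hXX⟩
  have hxv : (x : Md 2 F) = kxP α a v₁ v₂ := rfl
  have hxi : ((x⁻¹ : GL (Fin 2 ⊕ Fin 2) F) : Md 2 F) = kxP α a v₁ v₂ := rfl
  have hconj : ∀ k ∈ K, kxP α a v₁ v₂ * k * kxP α a v₁ v₂ ∈ K := by
    intro k hk
    obtain ⟨s, t, rfl⟩ := hspan k hk
    have e : kxP α a v₁ v₂ * (s • (1 : Md 2 F) + t • α) * kxP α a v₁ v₂ =
        s • (1 : Md 2 F) - t • α := by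
      rw [mul_add, add_mul, Matrix.mul_smul, Matrix.smul_mul, mul_one, hXX, Matrix.mul_smul,
        Matrix.smul_mul, hanti, neg_mul, mul_assoc, hXX, mul_one, smul_neg, sub_eq_add_neg]
    rw [e]
    exact K.sub_mem (K.smul_mem K.one_mem s) (K.smul_mem hα t)
  refine ⟨x, ?_, ?_, ?_, ?_, ?_⟩
  · show ∀ u v : Vd 2 F, Cfsg.sympForm 2 F ((x : Md 2 F) *ᵥ u) ((x : Md 2 F) *ᵥ v) =
      Cfsg.sympForm 2 F u v
    intro u v
    rw [hxv]
    exact h.kxP_form u v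
  · apply kx_mem_normalizer
    · intro k hk
      rw [hxv, hxi]
      exact hconj k hk
    · intro k hk
      rw [hxv, hxi]
      exact hconj k hk
  · rw [hxv]
    exact hXX
  · rw [hxv]
    intro h1
    -- `X (α v₁) = - α v₁`
    have e := h.kxP_q (α *ᵥ v₁)
    rw [h1, Matrix.one_mulVec, h.gpq] at e
    have : (2 : F) * a = 0 := by linear_combination e
    rcases mul_eq_zero.1 this with h' | h'
    · exact h2 h'
    · exact ha h'
  · rw [hxv]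
    intro h1
    have e : Cfsg.sympForm 2 F (kxP α a v₁ v₂ *ᵥ v₁) v₂ = 1 := by
      rw [h.kxP_mulVec, h.g1q, h.g1p, zero_smul, zero_smul, sub_zero, smul_zero, sub_zero, h.g12]
    rw [h1, Matrix.neg_mulVec, Matrix.one_mulVec, ← neg_one_smul F v₁, sympForm_smul_left,
      h.g12] at e
    apply h2
    linear_combination (-1 : F) * e

end Cfsg.Agent.Lib.Helper13.FXSP
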